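import Mathlib
import Cfsg.Prelude.Def_Characters
import Cfsg.Prelude.Def_Blocks
import Cfsg.Prelude.Def_CharExt

set_option autoImplicit false

/-!
# Interface for S4892 (helper82): p-rational extensions in the principal block

Definitions only.  `IsPRat p f` is the p-rationality predicate used by the frozen statement;
`IsPGen p n k` says that the power map `x ↦ x ^ k` represents a generator of the Galois group of
`ℚ(ζ_n)` over `ℚ(ζ_{n_{p'}})`; `Good M N χ` says that the restriction of `χ` to every subgroup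
`J ≥ N` is an irreducible character in the principal block of `J`.
-/

namespace Cfsg.Agent.Helper82.PRat

open Cfsg

/-- `f` is p-rational: all values lie in `ℚ(exp (2πi/n))` for some `n` prime to `p`. -/
def IsPRat (p : ℕ) {X : Type*} (f : X → ℂ) : Prop :=
  ∃ n : ℕ, ¬ p ∣ n ∧ ∀ x : X, f x ∈
    IntermediateField.adjoin ℚ ({Complex.exp (2 * Real.pi * Complex.I / n)} : Set ℂ)

/-- `k` is positive, prime to `n`, is `1` modulo the `p'`-part of `n`, is not `1` modulo `p`, and
every such unit is a power of `k` modulo `n`. -/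
def IsPGen (p n k : ℕ) : Prop :=
  0 < k ∧ k.Coprime n ∧ k ≡ 1 [MOD ordCompl[p] n] ∧ ¬ k ≡ 1 [MOD p] ∧
    ∀ j : ℕ, j.Coprime n → j ≡ 1 [MOD ordCompl[p] n] → ∃ i : ℕ, j ≡ k ^ i [MOD n]

/-- every restriction of `χ` to a subgroup `J ≥ N` is an irreducible character in the principal
block of `J`. -/
def Good {G : Type*} [Group G] (M : Ideal AlgInt) (N : Subgroup G) (χ : IrrCharacter G) : Prop :=
  ∀ J : Subgroup G, N ≤ J → ∃ ξ : IrrCharacter ↥J, ξ ∈ principalBlock M ↥J ∧
    ∀ y : ↥J, (ξ : ↥J → ℂ) y = (χ : G → ℂ) y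

end Cfsg.Agent.Helper82.PRat
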