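import Mathlib
import Cfsg.Agent.Helper82.PRat.Defs
import Cfsg.Agent.Helper82.FV.Field
import Cfsg.Agent.Helper82.CanonicalGalois

set_option autoImplicit false

/-!
# p-rationality versus invariance under a power map (helper82, for S4892)

* `powFix_of_isPRat` (R1): a p-rational character is fixed by `x ↦ x ^ k` when `k ≡ 1` modulo the
  `p'`-part of an exponent `n`.
* `isPRat_of_powFix` (R2): conversely, a character fixed by `x ↦ x ^ k` for a generator `k`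
  (`IsPGen p n k`) is p-rational.
* `not_dvd_detOrder_of_isPRat` (DET): the determinantal order of a p-rational character is prime
  to `p` (`p` odd).
-/

namespace Cfsg.Agent.Helper82.PRat

open Cfsg IntermediateField

/-- a ring automorphism of `ℂ` fixing `z` fixes `ℚ(z)` pointwise. -/
theorem ringAut_fixes_adjoin (τ : ℂ ≃+* ℂ) (z : ℂ) (hz : τ z = z) :
    ∀ w ∈ IntermediateField.adjoin ℚ ({z} : Set ℂ), τ w = w := by
  intro w hw
  induction hw using IntermediateField.adjoin_induction with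
  | mem x hx =>
    rw [Set.mem_singleton_iff] at hx
    rw [hx]; exact hz
  | algebraMap x =>
    show τ ((algebraMap ℚ ℂ) x) = (algebraMap ℚ ℂ) x
    simp
  | add x y _ _ hx hy => rw [map_add, hx, hy]
  | inv x _ hx => rw [map_inv₀, hx]
  | mul x y _ _ hx hy => rw [map_mul, hx, hy]

theorem ordProj_mul_ordCompl' (p n : ℕ) : p ^ n.factorization p * ordCompl[p] n = n :=
  Nat.ordProj_mul_ordCompl_eq_self n p

/-- CRT: a number congruent to `k` modulo `p ^ a` and to `1` modulo `c`, `c` prime to `p`. -/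
theorem exists_crt (p : ℕ) (hp : p.Prime) (a c k : ℕ) (hc : ¬ p ∣ c) (hc0 : c ≠ 0) :
    ∃ k' : ℕ, k' ≡ k [MOD p ^ a] ∧ k' ≡ 1 [MOD c] := by
  have hcop : Nat.Coprime (p ^ a) c :=
    Nat.Coprime.pow_left a ((Nat.Prime.coprime_iff_not_dvd hp).2 hc)
  exact ⟨Nat.chineseRemainder hcop k 1, (Nat.chineseRemainder hcop k 1).2.1,
    (Nat.chineseRemainder hcop k 1).2.2⟩

/-- (R1) -/
theorem powFix_of_isPRat {X : Type*} [Group X] [Finite X] (p : ℕ) [Fact p.Prime] (n k : ℕ)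
    (hn0 : 0 < n) (hn : ∀ x : X, x ^ n = 1) (hk : k.Coprime n) (hk1 : k ≡ 1 [MOD ordCompl[p] n])
    {χ : X → ℂ} (hχ : IsCharacter X χ) (hr : IsPRat p χ) (x : X) : χ (x ^ k) = χ x := by
  have hp : p.Prime := Fact.out
  obtain ⟨m, hpm, hm⟩ := hr
  have hm0 : m ≠ 0 := fun h => hpm (h ▸ dvd_zero p)
  set a := n.factorization p with ha
  set n' := ordCompl[p] n with hn'
  have hnn : p ^ a * n' = n := Nat.ordProj_mul_ordCompl_eq_self n p
  have hpn' : ¬ p ∣ n' := Nat.not_dvd_ordCompl hp hn0.ne'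
  have hn'0 : n' ≠ 0 := by
    intro h; rw [h, mul_zero] at hnn; omega
  have hc : ¬ p ∣ n' * m := by
    intro h
    rcases (Nat.Prime.dvd_mul hp).1 h with h | h
    · exact hpn' h
    · exact hpm h
  obtain ⟨k', hk'1, hk'2⟩ := exists_crt p hp a (n' * m) k hc (Nat.mul_ne_zero hn'0 hm0)
  have hk'n' : k' ≡ 1 [MOD n'] := hk'2.of_mul_right m
  have hk'm : k' ≡ 1 [MOD m] := hk'2.of_mul_left n'
  have hcop_pa : Nat.Coprime (p ^ a) n' :=
    Nat.Coprime.pow_left a ((Nat.Prime.coprime_iff_not_dvd hp).2 hpn')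
  have hk'n : k' ≡ k [MOD n] := by
    rw [← hnn]
    exact (Nat.modEq_and_modEq_iff_modEq_mul hcop_pa).1 ⟨hk'1, hk'n'.trans hk1.symm⟩
  -- `k'` is prime to `n * m`
  have hk'cop : k'.Coprime (n * m) := by
    apply Nat.Coprime.mul_right
    · have : k'.gcd n = k.gcd n := hk'n.gcd_eq
      unfold Nat.Coprime
      rw [this]; exact hk
    · have : k'.gcd m = (1 : ℕ).gcd m := hk'm.gcd_eq
      unfold Nat.Coprime
      rw [this]; exact Nat.gcd_one_left m
  have hN0 : 0 < n * m := Nat.mul_pos hn0 (Nat.pos_of_ne_zero hm0)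
  obtain ⟨τ, hτ⟩ := Cfsg.Agent.Helper82.exists_ringAut_complex_pow (n * m) hN0 k' hk'cop
  -- `τ` fixes `exp (2πi/m)`
  set z : ℂ := Complex.exp (2 * Real.pi * Complex.I / m) with hz
  have hzm : z ^ m = 1 := (Complex.isPrimitiveRoot_exp m hm0).pow_eq_one
  have hτz : τ z = z := by
    rw [hτ z (by rw [mul_comm, pow_mul, hzm, one_pow])]
    have := pow_eq_pow_of_modEq hk'm hzm
    simpa using this
  have h1 : τ (χ x) = χ x := ringAut_fixes_adjoin τ z hτz _ (hm x)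
  have hxN : x ^ (n * m) = 1 := by rw [pow_mul, hn, one_pow]
  have h2 : τ (χ x) = χ (x ^ k') :=
    Cfsg.Agent.Helper82.ringAut_char_eq_pow τ (n * m) k' hτ hχ x hxN
  have h3 : x ^ k' = x ^ k := pow_eq_pow_of_modEq hk'n (hn x)
  rw [← h3, ← h2, h1]

/-- iterate of the fixed-point condition. -/
theorem powFix_iterate {X : Type*} [Monoid X] (k : ℕ) {χ : X → ℂ}
    (hfix : ∀ x : X, χ (x ^ k) = χ x) (i : ℕ) (x : X) : χ (x ^ (k ^ i)) = χ x := by
  induction i generalizing x with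
  | zero => simp
  | succ i ih => rw [pow_succ, pow_mul, hfix, ih]

/-- (R2) -/
theorem isPRat_of_powFix {X : Type*} [Group X] [Finite X] (p : ℕ) [Fact p.Prime] (n k : ℕ)
    (hn0 : 0 < n) (hn : ∀ x : X, x ^ n = 1) (hk : IsPGen p n k)
    {χ : X → ℂ} (hχ : IsCharacter X χ) (hfix : ∀ x : X, χ (x ^ k) = χ x) : IsPRat p χ := by
  classical
  have hp : p.Prime := Fact.out
  have hNZ : NeZero n := ⟨hn0.ne'⟩
  set a := n.factorization p with ha
  set n' := ordCompl[p] n with hn'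
  have hnn : p ^ a * n' = n := Nat.ordProj_mul_ordCompl_eq_self n p
  have hpn' : ¬ p ∣ n' := Nat.not_dvd_ordCompl hp hn0.ne'
  have hn'0 : n' ≠ 0 := by
    intro h; rw [h, mul_zero] at hnn; omega
  refine ⟨n', hpn', fun x => ?_⟩
  set ω : ℂ := Complex.exp (2 * Real.pi * Complex.I / n) with hωdef
  have hω : IsPrimitiveRoot ω n := Complex.isPrimitiveRoot_exp n hn0.ne'
  have hcyc : IsCyclotomicExtension {n} ℚ ℚ⟮ω⟯ := FV.cyclo_inst hω
  have hfd : FiniteDimensional ℚ ℚ⟮ω⟯ := IsCyclotomicExtension.finiteDimensional {n} ℚ ℚ⟮ω⟯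
  have hgal : IsGalois ℚ ℚ⟮ω⟯ := IsCyclotomicExtension.isGalois {n} ℚ ℚ⟮ω⟯
  -- `exp (2πi/n') = ω ^ (p ^ a)`
  have hω' : Complex.exp (2 * Real.pi * Complex.I / n') = ω ^ (p ^ a) := by
    rw [hωdef, ← Complex.exp_nat_mul]
    congr 1
    have hnC : (n : ℂ) = (p ^ a : ℕ) * (n' : ℂ) := by rw [← hnn]; push_cast; ring
    have h1 : (n' : ℂ) ≠ 0 := by exact_mod_cast hn'0
    have h2 : ((p ^ a : ℕ) : ℂ) ≠ 0 := by
      have : 0 < p ^ a := pow_pos hp.pos a
      exact_mod_cast this.ne'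
    rw [hnC]
    field_simp
  rw [hω']
  -- the element `χ x` of `ℚ(ω)`
  obtain ⟨σ₁, hσ₁⟩ := FV.exists_aut_pow hω 1 (Nat.coprime_one_left n)
  have hmem : χ x ∈ ℚ⟮ω⟯ := (FV.aut_char hω σ₁ 1 hσ₁ hχ x (hn x)).1
  let e : ℚ⟮ω⟯ := ⟨χ x, hmem⟩
  let wE : ℚ⟮ω⟯ := (AdjoinSimple.gen ℚ ω) ^ (p ^ a)
  have hwE : (wE : ℂ) = ω ^ (p ^ a) := by
    show ((AdjoinSimple.gen ℚ ω ^ (p ^ a) : ℚ⟮ω⟯) : ℂ) = ω ^ (p ^ a)
    simp
  have hwEn : (wE : ℂ) ^ n = 1 := by
    rw [hwE, ← pow_mul, mul_comm, pow_mul, hω.pow_eq_one, one_pow]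
  have key : e ∈ IntermediateField.adjoin ℚ ({wE} : Set ℚ⟮ω⟯) := by
    apply FV.mem_of_forall_fixed
    intro σ hσfix
    obtain ⟨j, hj, hσ⟩ := FV.aut_pow hω σ
    have h1 : σ wE = wE := hσfix wE (subset_adjoin ℚ _ (Set.mem_singleton _))
    have h2 : ((σ wE : ℚ⟮ω⟯) : ℂ) = (wE : ℂ) ^ j := hσ wE hwEn
    rw [h1, hwE] at h2
    -- `ω ^ (p^a) = ω ^ (p^a * j)` gives `j ≡ 1 [MOD n']`
    have h3 : p ^ a * 1 ≡ p ^ a * j [MOD n] := by
      have hfin : IsOfFinOrder ω := isOfFinOrder_iff_pow_eq_one.2 ⟨n, hn0, hω.pow_eq_one⟩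
      have := hfin.pow_eq_pow_iff_modEq (n := p ^ a * 1) (m := p ^ a * j)
      rw [← hω.eq_orderOf] at this
      apply this.1
      rw [mul_one, pow_mul]
      exact h2
    have h4 : 1 ≡ j [MOD n'] := by
      rw [← hnn] at h3
      exact Nat.ModEq.mul_left_cancel' (pow_pos hp.pos a).ne' h3
    obtain ⟨i, hi⟩ := hk.2.2.2.2 j hj h4.symm
    have h5 := (FV.aut_char hω σ j hσ hχ x (hn x)).2 e rfl
    apply Subtype.ext
    rw [h5]
    have h6 : x ^ j = x ^ (k ^ i) := pow_eq_pow_of_modEq hi (hn x)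
    rw [h6, powFix_iterate k hfix i x]
  -- back to `ℂ`
  let v : ↥ℚ⟮ω⟯ →ₐ[ℚ] ℂ := (algebraMap ↥ℚ⟮ω⟯ ℂ).toRatAlgHom
  have hmap : (IntermediateField.adjoin ℚ ({wE} : Set ℚ⟮ω⟯)).map v =
      IntermediateField.adjoin ℚ ({ω ^ (p ^ a)} : Set ℂ) := by
    rw [adjoin_map]
    congr 1
    rw [Set.image_singleton]
    congr 1
  rw [← hmap]
  exact (IntermediateField.mem_map _).2 ⟨e, key, rfl⟩

/-- (DET) -/
theorem not_dvd_detOrder_of_isPRat {X : Type*} [Group X] [Finite X] (p : ℕ) [Fact p.Prime]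
    (hp : p ≠ 2) {χ : X → ℂ} (hχ : IsCharacter X χ) (hr : IsPRat p χ) : ¬ p ∣ detOrder χ := by
  have hpp : p.Prime := Fact.out
  set n := Nat.card X with hn
  have hn0 : 0 < n := Nat.card_pos
  have hpow : ∀ x : X, x ^ n = 1 := fun x => pow_card_eq_one'
  set a := n.factorization p with ha
  set n' := ordCompl[p] n with hn'
  have hnn : p ^ a * n' = n := Nat.ordProj_mul_ordCompl_eq_self n p
  have hpn' : ¬ p ∣ n' := Nat.not_dvd_ordCompl hpp hn0.ne'
  have hn'0 : n' ≠ 0 := by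
    intro h; rw [h, mul_zero] at hnn; omega
  -- `k ≡ 2 [MOD p ^ (a+1)]`, `k ≡ 1 [MOD n']`
  obtain ⟨k, hk1, hk2⟩ := exists_crt p hpp (a + 1) n' 2 hpn' hn'0
  have hk2p : k ≡ 2 [MOD p] := by
    have : p ∣ p ^ (a + 1) := dvd_pow_self p (Nat.succ_ne_zero a)
    exact hk1.of_dvd this
  have hkp : ¬ p ∣ k := by
    intro h
    have h0 : k ≡ 0 [MOD p] := (Nat.modEq_zero_iff_dvd).2 h
    have h2 : 2 ≡ 0 [MOD p] := hk2p.symm.trans h0
    have h3 : p ∣ 2 := (Nat.modEq_zero_iff_dvd).1 h2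
    have h4 : p ≤ 2 := Nat.le_of_dvd (by norm_num) h3
    have h5 : 2 ≤ p := hpp.two_le
    omega
  have hkcop : k.Coprime n := by
    rw [← hnn]
    apply Nat.Coprime.mul_right
    · exact Nat.Coprime.pow_right a ((Nat.coprime_comm).1 ((Nat.Prime.coprime_iff_not_dvd hpp).2 hkp))
    · have : k.gcd n' = (1 : ℕ).gcd n' := hk2.gcd_eq
      unfold Nat.Coprime
      rw [this]; exact Nat.gcd_one_left n'
  have hk1' : 1 ≤ k := by
    rcases Nat.eq_zero_or_pos k with h | h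
    · exact absurd (h ▸ dvd_zero p) hkp
    · exact h
  have hfix : ∀ x : X, χ (x ^ k) = χ x := fun x =>
    powFix_of_isPRat p n k hn0 hpow hkcop hk2 hχ hr x
  obtain ⟨τ, hτ⟩ := Cfsg.Agent.Helper82.exists_ringAut_complex_pow n hn0 k hkcop
  have heq : (fun y => τ (χ y)) = χ := by
    funext y
    rw [Cfsg.Agent.Helper82.ringAut_char_eq_pow τ n k hτ hχ y (hpow y), hfix]
  have hdet : ∀ x : X, detChar χ x ^ k = detChar χ x := by
    intro x
    have h1 := Cfsg.Agent.Helper82.detChar_ringAut τ hχ x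
    rw [heq] at h1
    have h2 : detChar χ x ^ n = 1 := by
      rw [← Cfsg.Agent.Helper82.detChar_pow_apply hχ, hpow]
      exact (Helper15.isCharacter_detChar hχ).2
    rw [hτ _ h2] at h1
    exact h1.symm
  have hdet1 : detChar χ ^ (k - 1) = 1 := by
    funext x
    have h2 : detChar χ x ^ n = 1 := by
      rw [← Cfsg.Agent.Helper82.detChar_pow_apply hχ, hpow]
      exact (Helper15.isCharacter_detChar hχ).2
    have h0 : detChar χ x ≠ 0 := by
      intro h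
      rw [h, zero_pow hn0.ne'] at h2
      exact zero_ne_one h2
    have h3 : detChar χ x * detChar χ x ^ (k - 1) = detChar χ x * 1 := by
      rw [← pow_succ', mul_one]
      have : k - 1 + 1 = k := by omega
      rw [this]; exact hdet x
    simpa using mul_left_cancel₀ h0 h3
  intro hdvd
  have h1 : detOrder χ ∣ k - 1 := orderOf_dvd_of_pow_eq_one hdet1
  have h2 : p ∣ k - 1 := dvd_trans hdvd h1
  have h3 : k ≡ 1 [MOD p] := ((Nat.modEq_iff_dvd' hk1').2 h2).symm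
  have h4 : 2 ≡ 1 [MOD p] := hk2p.symm.trans h3
  have h5 : p ∣ 2 - 1 := (Nat.modEq_iff_dvd' (by norm_num)).1 h4.symm
  have h6 : p ∣ 1 := by simpa using h5
  exact hpp.one_lt.ne' (Nat.dvd_one.1 h6)

end Cfsg.Agent.Helper82.PRat
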