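import Mathlib
import Cfsg.Agent.Helper82.PRat.Defs
import Cfsg.Agent.Helper82.PRat.Rat
import Cfsg.Agent.Helper48.PRatR0
import Cfsg.Agent.Helper89.PRatEXT
import Cfsg.Agent.Helper25.PRatEP
import Cfsg.Agent.Helper79.PrincipalQuot
import Cfsg.Agent.S4937
import Cfsg.Agent.Helper29.PRatADS
import Cfsg.Agent.Helper81.PRatT1
import Cfsg.Agent.Helper81.PRatT2a

set_option autoImplicit false

/-!
# S4892, the covering case `G = N C_G(Q)` (helper82)

`main_cover`: the unique `p`-rational good extension of `θ`.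
-/

namespace Cfsg.Agent.Helper82.PRat

open Cfsg

section Cover

variable {G : Type*} [Group G] [Finite G] (p : ℕ) [Fact p.Prime] (M : Ideal AlgInt)
  (N : Subgroup G) [N.Normal]

/-- (T2) two good extensions of `θ` differ by a linear character of `p`-power order. -/
theorem exists_linear_of_good (hM : IsPModular p M) (Q : Sylow p ↥N)
    (hcov : N ⊔ Subgroup.centralizer (((Q : Subgroup ↥N).map N.subtype : Subgroup G) : Set G) = ⊤)
    (θ : IrrCharacter ↥N) (hθ : θ ∈ principalBlock M ↥N) (χ χ' : IrrCharacter G)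
    (h : ∀ x : ↥N, (χ : G → ℂ) x = (θ : ↥N → ℂ) x) (h' : ∀ x : ↥N, (χ' : G → ℂ) x = (θ : ↥N → ℂ) x)
    (hg : Good M N χ) (hg' : Good M N χ') :
    ∃ lam : G →* ℂˣ, (∀ n ∈ N, lam n = 1) ∧
      (∀ g : G, lam g ^ (p ^ (Nat.card G).factorization p) = 1) ∧
      ∀ g : G, (χ' : G → ℂ) g = (χ : G → ℂ) g * ((lam g : ℂˣ) : ℂ) :=
  Cfsg.Agent.Helper81.PRatT.exists_linear_of_good_of_unique p M N θ χ χ' h h' hg hg'
    (fun S hNS hidx η η' hη hη' hηN hη'N =>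
      (Cfsg.Agent.Helper29.PRat.ad_unique p M N hM Q hcov S hNS hidx θ hθ).unique
        ⟨hη, hηN⟩ ⟨hη', hη'N⟩)

/-- (EXT) `θ` extends to `G = N C_G(Q)`. -/
theorem exists_extension (hM : IsPModular p M) (hp : p ≠ 2) (Q : Sylow p ↥N)
    (hcov : N ⊔ Subgroup.centralizer (((Q : Subgroup ↥N).map N.subtype : Subgroup G) : Set G) = ⊤)
    (θ : IrrCharacter ↥N)
    (hinv : ∀ g : G, ∀ n n' : ↥N, (n' : G) = g * (n : G) * g⁻¹ → (θ : ↥N → ℂ) n' = (θ : ↥N → ℂ) n)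
    (hdeg : ¬ p ∣ charDegree (θ : ↥N → ℂ)) (hrat : IsPRat p (θ : ↥N → ℂ))
    (hθ : θ ∈ principalBlock M ↥N) :
    ∃ ψ : IrrCharacter G, ∀ x : ↥N, (ψ : G → ℂ) x = (θ : ↥N → ℂ) x :=
  Cfsg.Agent.Helper89.PRatEXT.exists_extension_of_pieces p N M θ hinv
    (not_dvd_detOrder_of_isPRat p hp (Helper74.isCharacter_of_isIrr θ.2) hrat)
    (fun S hNS hidx => Cfsg.Agent.Helper29.PRat.ad_unique p M N hM Q hcov S hNS hidx θ hθ)
    (fun S hNS hidx hdet => Cfsg.Agent.Helper25.PRatEP.ext_p p N S hNS hidx θ hinv hdeg hdet)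

/-- (F) **Main lemma**, the case `G = N C_G(Q)`: the unique `p`-rational good extension. -/
theorem main_cover (hM : IsPModular p M) (hp : p ≠ 2) (Q : Sylow p ↥N)
    (hcov : N ⊔ Subgroup.centralizer (((Q : Subgroup ↥N).map N.subtype : Subgroup G) : Set G) = ⊤)
    (θ : IrrCharacter ↥N)
    (hinv : ∀ g : G, ∀ n n' : ↥N, (n' : G) = g * (n : G) * g⁻¹ → (θ : ↥N → ℂ) n' = (θ : ↥N → ℂ) n)
    (hdeg : ¬ p ∣ charDegree (θ : ↥N → ℂ)) (hrat : IsPRat p (θ : ↥N → ℂ))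
    (hθ : θ ∈ principalBlock M ↥N) :
    ∃ χ : IrrCharacter G, (∀ x : ↥N, (χ : G → ℂ) x = (θ : ↥N → ℂ) x) ∧ Good M N χ ∧
      IsPRat p (χ : G → ℂ) ∧
      ∀ χ' : IrrCharacter G, (∀ x : ↥N, (χ' : G → ℂ) x = (θ : ↥N → ℂ) x) → Good M N χ' →
        IsPRat p (χ' : G → ℂ) → χ' = χ := by
  classical
  -- an extension, then a good one
  have hext := exists_extension p M N hM hp Q hcov θ hinv hdeg hrat hθ
  obtain ⟨χ₁, -, hχ₁N, hχ₁good⟩ := Cfsg.Agent.S4937.result p M hM N Q hcov θ hθ hext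
  have hgood₁ : Good M N χ₁ := hχ₁good
  -- the Galois generator
  set n := Nat.card G with hn
  have hn0 : 0 < n := Nat.card_pos
  obtain ⟨k, hk⟩ := Cfsg.Agent.Helper48.PRatR0.exists_isPGen p hp n hn0
  have hkG : k.Coprime (Nat.card G) := hk.2.1
  have hpowG : ∀ x : G, x ^ n = 1 := fun x => pow_card_eq_one'
  have hpowN : ∀ x : ↥N, x ^ n = 1 := by
    intro x
    apply Subtype.ext
    simpa using hpowG (x : G)
  have hθfix : ∀ x : ↥N, (θ : ↥N → ℂ) (x ^ k) = (θ : ↥N → ℂ) x := fun x =>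
    powFix_of_isPRat p n k hn0 hpowN hk.2.1 hk.2.2.1 (Helper74.isCharacter_of_isIrr θ.2) hrat x
  -- Galois conjugates of good extensions are good extensions
  have hconj : ∀ χ : IrrCharacter G, (∀ x : ↥N, (χ : G → ℂ) x = (θ : ↥N → ℂ) x) → Good M N χ →
      (∀ x : ↥N, (Helper79.irrPow k hkG χ : G → ℂ) x = (θ : ↥N → ℂ) x) ∧
        Good M N (Helper79.irrPow k hkG χ) := by
    intro χ hχN hχg
    constructor
    · intro x
      rw [Helper79.irrPow_apply]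
      have : ((x : G)) ^ k = ((x ^ k : ↥N) : G) := by simp
      rw [this, hχN, hθfix]
    · intro J hJ
      obtain ⟨ξ, hξB, hξ⟩ := hχg J hJ
      have hkJ : k.Coprime (Nat.card ↥J) :=
        Nat.Coprime.coprime_dvd_right (Subgroup.card_subgroup_dvd_card J) hkG
      refine ⟨Helper79.irrPow k hkJ ξ, Helper79.irrPow_mem_principalBlock k hkJ ξ hξB, ?_⟩
      intro y
      rw [Helper79.irrPow_apply, Helper79.irrPow_apply, hξ]
      simp
  obtain ⟨hc1, hc2⟩ := hconj χ₁ hχ₁N hgood₁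
  obtain ⟨mu, hmuN, hmup, hmu⟩ :=
    exists_linear_of_good p M N hM Q hcov θ hθ χ₁ (Helper79.irrPow k hkG χ₁) hχ₁N hc1 hgood₁ hc2
  set a := (Nat.card G).factorization p with ha
  -- `p ∤ k - 1`: choose `e` with `(k - 1) * e ≡ 1 [MOD p ^ a]`
  have hk1 : ¬ k ≡ 1 [MOD p] := hk.2.2.2.1
  have hpprime : p.Prime := Fact.out
  have hkpos : 1 ≤ k := hk.1
  have hcopk : Nat.Coprime (k - 1) (p ^ a) := by
    apply Nat.Coprime.pow_right
    rw [Nat.coprime_comm, Nat.Prime.coprime_iff_not_dvd hpprime]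
    intro hd
    apply hk1
    exact ((Nat.modEq_iff_dvd' hkpos).2 hd).symm
  have hpa : 0 < p ^ a := pow_pos hpprime.pos a
  obtain ⟨e, he⟩ : ∃ e : ℕ, (k - 1) * e ≡ 1 [MOD p ^ a] := by
    rcases Nat.lt_or_ge 1 (p ^ a) with h1 | h1
    · obtain ⟨e, -, he⟩ := Nat.exists_mul_mod_eq_one_of_coprime hcopk h1
      refine ⟨e, ?_⟩
      show (k - 1) * e % (p ^ a) = 1 % (p ^ a)
      rw [he, Nat.mod_eq_of_lt h1]
    · have : p ^ a = 1 := le_antisymm h1 hpa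
      exact ⟨0, by rw [this]; exact Nat.modEq_one⟩
  -- `x ^ (p ^ a) = 1` and `x ^ (k - 1) = 1` force `x = 1`
  have hkill : ∀ x : ℂˣ, x ^ (p ^ a) = 1 → x ^ (k - 1) = 1 → x = 1 := by
    intro x hx1 hx2
    have h1 : orderOf x ∣ Nat.gcd (k - 1) (p ^ a) :=
      Nat.dvd_gcd (orderOf_dvd_of_pow_eq_one hx2) (orderOf_dvd_of_pow_eq_one hx1)
    rw [hcopk] at h1
    exact orderOf_eq_one_iff.1 (Nat.dvd_one.1 h1)
  -- the twisting character `lam = mu⁻¹ ^ e`, with `lam ^ (k - 1) = mu⁻¹`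
  let lam : G →* ℂˣ := (mu⁻¹) ^ e
  have hlamN : ∀ x ∈ N, lam x = 1 := by
    intro x hx
    show ((mu⁻¹) ^ e) x = 1
    simp [hmuN x hx]
  have hlamp : ∀ g : G, lam g ^ (p ^ a) = 1 := by
    intro g
    show (((mu⁻¹) ^ e) g) ^ (p ^ a) = 1
    simp only [MonoidHom.pow_apply, MonoidHom.inv_apply, inv_pow]
    rw [← pow_mul, mul_comm, pow_mul, hmup g, one_pow, inv_one]
  have hlamk : ∀ g : G, lam g ^ (k - 1) * mu g = 1 := by
    intro g
    show (((mu⁻¹) ^ e) g) ^ (k - 1) * mu g = 1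
    simp only [MonoidHom.pow_apply, MonoidHom.inv_apply, inv_pow]
    rw [← pow_mul, mul_comm e (k - 1)]
    have h1 : mu g ^ ((k - 1) * e) = mu g := by
      have := pow_eq_pow_of_modEq he (hmup g)
      simpa using this
    rw [h1, inv_mul_cancel]
  obtain ⟨χ₂, hχ₂val, hχ₂good⟩ := Cfsg.Agent.Helper81.PRatT.good_mul_linear p M N hM χ₁ hgood₁ lam hlamN a hlamp
  have hχ₂N : ∀ x : ↥N, (χ₂ : G → ℂ) x = (θ : ↥N → ℂ) x := by
    intro x
    rw [hχ₂val, hlamN x x.2, hχ₁N]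
    simp
  have hχ₂fix : ∀ g : G, (χ₂ : G → ℂ) (g ^ k) = (χ₂ : G → ℂ) g := by
    intro g
    have h1 : (χ₁ : G → ℂ) (g ^ k) = (χ₁ : G → ℂ) g * ((mu g : ℂˣ) : ℂ) := by
      have := hmu g
      rwa [Helper79.irrPow_apply] at this
    rw [hχ₂val, hχ₂val, h1, map_pow]
    have h2 : lam g ^ k = lam g * lam g ^ (k - 1) := by
      rw [← pow_succ']; congr 1; omega
    have h3 : ((mu g : ℂˣ) : ℂ) * (((lam g) ^ k : ℂˣ) : ℂ) = ((lam g : ℂˣ) : ℂ) := by
      rw [h2, ← Units.val_mul]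
      congr 1
      rw [mul_comm (lam g), ← mul_assoc, mul_comm (mu g), hlamk g, one_mul]
    rw [mul_assoc, h3]
  have hχ₂rat : IsPRat p (χ₂ : G → ℂ) :=
    isPRat_of_powFix p n k hn0 hpowG hk (Helper74.isCharacter_of_isIrr χ₂.2) hχ₂fix
  refine ⟨χ₂, hχ₂N, hχ₂good, hχ₂rat, ?_⟩
  intro χ' hχ'N hχ'good hχ'rat
  obtain ⟨nu, hnuN, hnup, hnu⟩ :=
    exists_linear_of_good p M N hM Q hcov θ hθ χ₂ χ' hχ₂N hχ'N hχ₂good hχ'good
  have hχ'fix : ∀ g : G, (χ' : G → ℂ) (g ^ k) = (χ' : G → ℂ) g := fun g =>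
    powFix_of_isPRat p n k hn0 hpowG hk.2.1 hk.2.2.1 (Helper74.isCharacter_of_isIrr χ'.2) hχ'rat g
  apply Subtype.ext
  funext g
  by_cases h0 : (χ₂ : G → ℂ) g = 0
  · rw [hnu g, h0, zero_mul]
  · have h1 := hχ'fix g
    rw [hnu (g ^ k), hnu g, hχ₂fix g, map_pow] at h1
    have h2 : (((nu g) ^ k : ℂˣ) : ℂ) = ((nu g : ℂˣ) : ℂ) := mul_left_cancel₀ h0 h1
    have h3 : (nu g) ^ k = nu g := Units.ext h2
    have h4 : (nu g) ^ (k - 1) = 1 := by
      have h5 : (nu g) ^ k = nu g * (nu g) ^ (k - 1) := by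
        rw [← pow_succ']; congr 1; omega
      rw [h5] at h3
      exact mul_left_cancel (a := nu g) (by rw [h3, mul_one])
    have h6 := hkill (nu g) (hnup g) h4
    rw [hnu g, h6]
    simp

end Cover

end Cfsg.Agent.Helper82.PRat
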